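import Groth.Agent.MilnorK.K989.InjFinal
import Groth.Agent.MilnorK.K395.Lim2

/-!
# Injectivity in degree two for all fields, the only input being Hilbert 90 for `K_2`
-/

set_option autoImplicit false
universe u

open K768

namespace K989.InjFin

/-- **Injectivity modulo `p` of the Galois symbol in degree two**, for every field containing a
primitive `p`-th root of unity, from Hilbert's Theorem 90 for `K_2`. -/
theorem pInj (p : ℕ) [Fact p.Prime] (H : ∀ X : K58.Kum.{u} p, X.H90) (E : Type u) [Field E]
    (ω : E) (hω : IsPrimitiveRoot ω p) : InsepRed.PInj p 2 E :=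
  InjFinal.pInj_two p H (K395.Lim.chainStable p) E ω hω

end K989.InjFin
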